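import Groth.Agent.FinCov.K993.Dbl3
import Groth.Agent.FinCov.K993.LocFree
import Groth.Agent.FinCov.K993.ExtAlg
import Groth.Agent.Fga.Compare
import Groth.Agent.Flat2C.GenericReduced
import Mathlib.AlgebraicGeometry.Morphisms.FlatRank
import Mathlib.AlgebraicGeometry.Morphisms.UniversallyOpen

/-!
# Double covers: `p_* O = O ⊕ L` with `m : L ⊗ L → O`, and integrality (helper554)

Let `p : Z ⟶ H` be finite locally free of rank two with `2` invertible.

* `K554.DblSplit.exists_split`: `p_* O_Z ≅ O_H ⊞ L` with `L` invertible and a pairing `m : L ⊗ L ⟶ O_H`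
  which is surjective at every point of `H` with two different points of `Z` over it;
* `K554.DblSplit.isIntegral_dbl`: integrality of `Z`.
-/

set_option autoImplicit false
set_option linter.unusedVariables false
set_option linter.unusedSectionVars false
universe u

open CategoryTheory CategoryTheory.Limits AlgebraicGeometry Opposite TopologicalSpace
open Groth.Agent.Fdesc.LocGen Groth.Agent.Ega2.BasSec K993.QAlg K993.Trace K993.Rank K993.Dbl K993.Dbl2

namespace K554.DblSplit

section dir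

variable {Z H : Scheme.{u}} (p : Z ⟶ H)

/-- The two incarnations of `p_* O_Z` agree. -/
noncomputable def dirIso [QuasiCompact p] [QuasiSeparated p] :
    (RelSpec.QCAlg.directImage p).toModule ≅ (Scheme.Modules.pushforward p).obj (Coh.structureModule Z) where
  hom := mkHom (fun U => AddMonoidHom.mk' (fun a => a) fun _ _ => rfl) (fun U a m => rfl) (fun U V h m => rfl)
  inv := mkHom (fun U => AddMonoidHom.mk' (fun a => a) fun _ _ => rfl) (fun U a m => rfl) (fun U V h m => rfl)
  hom_inv_id := rfl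
  inv_hom_id := rfl

theorem rank_iso {X : Scheme.{u}} {n : ℕ} {M N : X.Modules} (e : M ≅ N) (h : FlatMod.IsFinLocFreeOfRank n M) :
    FlatMod.IsFinLocFreeOfRank n N := by
  intro x
  obtain ⟨U, hU, ⟨a⟩⟩ := h x
  exact ⟨U, hU, ⟨(Scheme.Modules.restrictFunctor U.ι).mapIso e.symm ≪≫ a⟩⟩

theorem exists_data [IsFinite p] [Flat p] [LocallyOfFinitePresentation p]
    (hrk : ∀ y : H, p.finrank y = 2) (h2 : IsUnit (2 : Γ(H, ⊤))) :
    ∃ (L : H.Modules) (_ : PicF.IsInvertible L) (m : CohB1.tensorMod L L ⟶ Coh.structureModule H)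
      (j : L ⟶ (RelSpec.QCAlg.directImage p).toModule), FinCov.IsDblAlg L m (RelSpec.QCAlg.directImage p) j ∧
      Nonempty ((Scheme.Modules.pushforward p).obj (Coh.structureModule Z) ≅ Coh.structureModule H ⊞ L) := by
  have hc : FinCov.IsCover p 2 := ⟨⟨inferInstance, inferInstance, inferInstance⟩, hrk⟩
  have h1 := ((K993.LocFree.isCover_iff p 2).mp hc).2
  have hA : FlatMod.IsFinLocFreeOfRank 2 (RelSpec.QCAlg.directImage p).toModule := rank_iso (dirIso p).symm h1
  have h2' : IsUnit ((2 : ℕ) : Γ(H, ⊤)) := by rwa [Nat.cast_ofNat]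
  obtain ⟨τ, hτ, -⟩ := K993.Trace.existsUnique (isFinLocFree hA)
  obtain ⟨m, hm⟩ := K993.Dbl3.exists_isDblAlg hA hτ h2
  have hk := K993.Split.isFinLocFreeOfRank_kernel hA hτ h2'
  have hL : PicF.IsInvertible (kernel τ) := Groth.Agent.Ega2.QCohLocal.isFinLocFreeOfRank_one_iff.mp hk
  have hs : IsSplitEpi τ := K993.Split.isSplitEpi hA hτ h2'
  refine ⟨kernel τ, hL, m, kernel.ι τ, hm, ⟨(dirIso p).symm ≪≫ ?_⟩⟩
  let S : ShortComplex H.Modules := ShortComplex.mk (kernel.ι τ) τ (kernel.condition τ)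
  have hS : S.Exact := ShortComplex.exact_kernel τ
  let sp : S.Splitting := ShortComplex.Splitting.ofExactOfSection S hS (section_ τ) (IsSplitEpi.id τ) 
    (inferInstanceAs (Mono (kernel.ι τ)))
  exact sp.isoBinaryBiproduct ≪≫ biprod.braiding _ _

end dir

section pairing

variable {X : Scheme.{u}} {L : X.Modules} {m : CohB1.tensorMod L L ⟶ Coh.structureModule X}

/-- the square of a section -/
noncomputable def sq (m : CohB1.tensorMod L L ⟶ Coh.structureModule X) {V : X.Opens} (e : Γ(L, V)) : Γ(X, V) :=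
  K993.ExtAlg.b m V e e

theorem sq_res {U V : X.Opens} (h : V ≤ U) (e : Γ(L, U)) : sq m (res L h e) = ores h (sq m e) :=
  K993.ExtAlg.b_res m h e e

theorem sq_smul {V : X.Opens} (c : Γ(X, V)) (e : Γ(L, V)) : sq m (c • e) = c * c * sq m e := by
  unfold sq
  rw [map_smul, map_smul, LinearMap.smul_apply, smul_smul, smul_eq_mul]

theorem not_mem_support {V : X.Opens} (e : Γ(L, V)) {x : X} (hx : x ∈ X.basicOpen (sq m e)) :
    x ∉ CohB1.support (cokernel m) := by
  refine Groth.Agent.Fga.Compare.not_mem_support_cokernel (X.basicOpen (sq m e)) m (fun W hW n => ?_) x hx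
  have hWV : W ≤ V := hW.trans (X.basicOpen_le _)
  have hu : IsUnit (ores hWV (sq m e)) := by
    have h1 : IsUnit (ores (X.basicOpen_le (sq m e)) (sq m e)) := by
      exact RingedSpace.isUnit_res_basicOpen _ _
    have h2 := h1.map (ores hW)
    rwa [ores_ores] at h2
  obtain ⟨v, hv⟩ := hu.exists_right_inv
  refine ⟨((ofFun (X := X) (U := W)).symm n * v) • Groth.Agent.Ega2.Tens.tmul (res L hWV e) (res L hWV e), ?_⟩
  rw [Scheme.Modules.Hom.app_smul]
  apply (ofFun (X := X) (U := W)).symm.injective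
  have h3 : (ofFun (X := X) (U := W)).symm (m.app W (Groth.Agent.Ega2.Tens.tmul (res L hWV e) (res L hWV e))) =
      ores hWV (sq m e) := sq_res hWV e
  change ((ofFun (X := X) (U := W)).symm n * v) *
    (ofFun (X := X) (U := W)).symm (m.app W (Groth.Agent.Ega2.Tens.tmul (res L hWV e) (res L hWV e))) = _
  rw [h3, mul_assoc, mul_comm v, hv, mul_one]

end pairing

section cov

variable {Z H : Scheme.{u}} {p : Z ⟶ H} [IsAffineHom p] {L : H.Modules}
  {m : CohB1.tensorMod L L ⟶ Coh.structureModule H} {j : L ⟶ (RelSpec.QCAlg.directImage p).toModule}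

/-- sections of the direct image -/
noncomputable def fn {V : H.Opens} (a : S (RelSpec.QCAlg.directImage p) V) : Γ(Z, p ⁻¹ᵁ V) := a

theorem fn_mul {V : H.Opens} (a b : S (RelSpec.QCAlg.directImage p) V) : fn (a * b) = fn a * fn b := rfl

theorem fn_add {V : H.Opens} (a b : S (RelSpec.QCAlg.directImage p) V) : fn (a + b) = fn a + fn b := rfl

theorem fn_algebraMap {V : H.Opens} (r : Γ(H, V)) :
    fn (algebraMap Γ(H, V) (S (RelSpec.QCAlg.directImage p) V) r) = (p.app V).hom r := rfl

theorem mul_self (h : FinCov.IsDblAlg L m (RelSpec.QCAlg.directImage p) j) {V : H.Opens} (e : Γ(L, V)) :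
    fn (jS j V e) * fn (jS j V e) = (p.app V).hom (sq m e) := h.2 V e e

theorem exists_rep (h : FinCov.IsDblAlg L m (RelSpec.QCAlg.directImage p) j) {V : H.Opens} {e : Γ(L, V)}
    (he : IsGen e) (f : Γ(Z, p ⁻¹ᵁ V)) :
    ∃ s t : Γ(H, V), f = (p.app V).hom s + (p.app V).hom t * fn (jS j V e) := by
  obtain ⟨⟨s, l⟩, hsl⟩ := (h.1 V).2 f
  obtain ⟨t, ht⟩ := he.exists_eq l
  refine ⟨s, t, ?_⟩
  have h1 : fn (algebraMap Γ(H, V) (S (RelSpec.QCAlg.directImage p) V) s + jS j V l) = f := hsl
  rw [← h1, ht, jS_smul, Algebra.smul_def, fn_add, fn_mul, fn_algebraMap, fn_algebraMap]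

theorem rep_eq_zero (h : FinCov.IsDblAlg L m (RelSpec.QCAlg.directImage p) j) {V : H.Opens} {e : Γ(L, V)}
    (he : IsGen e) {s t : Γ(H, V)} (hst : (p.app V).hom s + (p.app V).hom t * fn (jS j V e) = 0) :
    s = 0 ∧ t = 0 := by
  have h1 : algebraMap Γ(H, V) (S (RelSpec.QCAlg.directImage p) V) s + jS j V (t • e) =
      algebraMap Γ(H, V) (S (RelSpec.QCAlg.directImage p) V) 0 + jS j V 0 := by
    have h2 : fn (algebraMap Γ(H, V) (S (RelSpec.QCAlg.directImage p) V) s + jS j V (t • e)) = 0 := by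
      rw [jS_smul, Algebra.smul_def, fn_add, fn_mul, fn_algebraMap, fn_algebraMap, hst]
    have h3 : jS j V 0 = 0 := by
      have := jS_smul j V 0 (0 : Γ(L, V))
      rwa [zero_smul, zero_smul] at this
    rw [h3, map_zero, add_zero]
    exact h2
  have h2 : ((s, t • e) : Γ(H, V) × Γ(L, V)) = (0, 0) := (h.1 V).1 h1
  have h3 : t • e = 0 := congrArg Prod.snd h2
  refine ⟨congrArg Prod.fst h2, he.ext ?_⟩
  rw [h3, zero_smul]

/-- Two different points over a point: the square of the generator does not vanish there. -/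
theorem mem_basicOpen_sq (h : FinCov.IsDblAlg L m (RelSpec.QCAlg.directImage p) j) {V : H.Opens}
    (hV : IsAffineOpen V) {e : Γ(L, V)} (he : IsGen e) {z z' : Z} (hz : z ≠ z') (hp : p z = p z')
    (hzV : p z ∈ V) : p z ∈ H.basicOpen (sq m e) := by
  by_contra hn
  have hW : IsAffineOpen (p ⁻¹ᵁ V) := hV.preimage p
  have key : ∀ (w : Z) (hw : w ∈ p ⁻¹ᵁ V), p w = p z → ∀ f : Γ(Z, p ⁻¹ᵁ V), 
      ∀ s t : Γ(H, V), f = (p.app V).hom s + (p.app V).hom t * fn (jS j V e) → 
      (w ∈ Z.basicOpen f ↔ p z ∈ H.basicOpen s) := by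
    intro w hw hwz f s t hf
    have h1 : w ∈ Z.basicOpen ((p.app V).hom s) ↔ p z ∈ H.basicOpen s := by
      rw [← hwz, ← Scheme.preimage_basicOpen]
      rfl
    have h2 : w ∉ Z.basicOpen (fn (jS j V e)) := by
      intro h3
      apply hn
      have h4 : w ∈ Z.basicOpen (fn (jS j V e) * fn (jS j V e)) := by
        rw [Scheme.basicOpen_mul]
        exact ⟨h3, h3⟩
      rw [mul_self h, ← Scheme.preimage_basicOpen] at h4
      rw [← hwz]
      exact h4
    rw [← h1]
    rw [Groth.Agent.Fdesc.QCohStalk.mem_basicOpen_iff hW w hw, Groth.Agent.Fdesc.QCohStalk.mem_basicOpen_iff hW w hw]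
    rw [Groth.Agent.Fdesc.QCohStalk.mem_basicOpen_iff hW w hw, not_not] at h2
    rw [not_iff_not, hf]
    constructor
    · intro h3
      have := sub_mem h3 (Ideal.mul_mem_left _ ((p.app V).hom t) h2)
      rwa [add_sub_cancel_right] at this
    · intro h3
      exact add_mem h3 (Ideal.mul_mem_left _ _ h2)
  apply hz
  have hz1 : z ∈ p ⁻¹ᵁ V := hzV
  have hz2 : z' ∈ p ⁻¹ᵁ V := by
    change p z' ∈ V
    rw [← hp]
    exact hzV
  have h5 : hW.primeIdealOf ⟨z, hz1⟩ = hW.primeIdealOf ⟨z', hz2⟩ := by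
    apply PrimeSpectrum.ext
    ext f
    obtain ⟨s, t, hf⟩ := exists_rep h he f
    have h6 := (key z hz1 rfl f s t hf).trans (key z' hz2 hp.symm f s t hf).symm
    rw [Groth.Agent.Fdesc.QCohStalk.mem_basicOpen_iff hW z hz1,
      Groth.Agent.Fdesc.QCohStalk.mem_basicOpen_iff hW z' hz2, not_iff_not] at h6
    exact h6
  have h6 := congrArg (fun q => hW.fromSpec q) h5
  have h7 := hW.fromSpec_primeIdealOf ⟨z, hz1⟩
  have h8 := hW.fromSpec_primeIdealOf ⟨z', hz2⟩
  exact h7.symm.trans (h6.trans h8)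

end cov

section main

variable {Z H : Scheme.{u}} (p : Z ⟶ H) [IsFinite p] [Flat p] [LocallyOfFinitePresentation p]
  (hrk : ∀ y : H, p.finrank y = 2) (h2 : IsUnit (2 : Γ(H, ⊤)))
include hrk h2

/-- affine opens with a generator -/
theorem exists_affine_gen {L : H.Modules} (hL : PicF.IsInvertible L) (x : H) :
    ∃ (V : H.Opens) (_ : IsAffineOpen V) (e : Γ(L, V)), x ∈ V ∧ IsGen e := by
  clear hrk h2
  obtain ⟨U, e, hx, he⟩ := (isInvertible_iff L).1 hL x
  obtain ⟨V, hV, hxV, hVU⟩ := exists_isAffineOpen_mem_and_subset (x := x) (U := U) hx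
  exact ⟨V, hV, res L hVU e, hxV, he.res hVU⟩

theorem exists_split :
    ∃ (L : H.Modules) (_ : PicF.IsInvertible L) (m : CohB1.tensorMod L L ⟶ Coh.structureModule H),
      Nonempty ((Scheme.Modules.pushforward p).obj (Coh.structureModule Z) ≅ Coh.structureModule H ⊞ L) ∧
      ∀ (z z' : Z), z ≠ z' → p z = p z' → p z ∉ CohB1.support (cokernel m) := by
  obtain ⟨L, hL, m, j, hm, hi⟩ := exists_data p hrk h2
  refine ⟨L, hL, m, hi, fun z z' hz hp => ?_⟩
  obtain ⟨V, hV, e, hx, he⟩ := exists_affine_gen p hrk h2 hL (p z)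
  exact not_mem_support e (mem_basicOpen_sq hm hV he hz hp hx)

theorem isIntegral_dbl [IsIntegral H] {V : Scheme.{u}} [IrreducibleSpace V] (s : V ⟶ Z) (U : H.Opens)
    (hU : (U : Set H).Nonempty) (hs : p ⁻¹' (U : Set H) ⊆ Set.range s) (z z' : Z) (hz : z ≠ z')
    (hp : p z = p z') : IsIntegral Z := by
  -- `Z` is irreducible
  have hirr : IrreducibleSpace Z := by
    have h1 : IsIrreducible (closure (Set.range s)) := by
      have h3 : IsIrreducible (Set.range s) := by
        rw [← Set.image_univ]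
        exact (IrreducibleSpace.isIrreducible_univ V).image _ s.continuous.continuousOn
      exact h3.closure
    have h2' : Dense (p ⁻¹' (U : Set H)) := by
      rw [dense_iff_inter_open]
      intro W hW hWn
      have h3 : IsOpen (p '' W) := p.isOpenMap W hW
      obtain ⟨y, ⟨w, hw, rfl⟩, hyU⟩ := nonempty_preirreducible_inter h3 U.2 (hWn.image _) hU
      exact ⟨w, hw, hyU⟩
    have h3 : closure (Set.range s) = Set.univ := Set.eq_univ_of_univ_subset
      (h2'.closure_eq.symm.subset.trans (closure_mono hs))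
    rw [h3] at h1
    exact { toPreirreducibleSpace := ⟨h1.isPreirreducible⟩, toNonempty := ⟨z⟩ }
  obtain ⟨L, hL, m, j, hm, hi⟩ := exists_data p hrk h2
  obtain ⟨V₀, hV₀, e₀, hx₀, he₀⟩ := exists_affine_gen p hrk h2 hL (p z)
  have hb₀ := mem_basicOpen_sq hm hV₀ he₀ hz hp hx₀
  -- the square of a generator is nonzero
  have hne : ∀ (W : H.Opens) (hW : (W : Set H).Nonempty) (e : Γ(L, W)), IsGen e → sq m e ≠ 0 := by
    intro W hW e he h0
    let W' : H.Opens := W ⊓ H.basicOpen (sq m e₀)
    have hW' : (W' : Set H).Nonempty :=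
      nonempty_preirreducible_inter W.2 (H.basicOpen (sq m e₀)).2 hW ⟨_, hb₀⟩
    have i1 : W' ≤ W := inf_le_left
    have i2 : W' ≤ V₀ := inf_le_right.trans (H.basicOpen_le _)
    obtain ⟨c, hc⟩ := (he.res i1).exists_eq (res L i2 e₀)
    have h3 : ores i2 (sq m e₀) = 0 := by
      rw [← sq_res, hc, sq_smul, sq_res, h0, map_zero, mul_zero]
    have h4 : IsUnit (ores i2 (sq m e₀)) := by
      have h5 : IsUnit (ores (H.basicOpen_le (sq m e₀)) (sq m e₀)) := RingedSpace.isUnit_res_basicOpen _ _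
      have h6 := h5.map (ores (inf_le_right : W' ≤ H.basicOpen (sq m e₀)))
      rwa [ores_ores] at h6
    have : Nonempty W' := hW'.to_subtype
    rw [h3] at h4
    exact not_isUnit_zero h4
  -- `Z` is reduced
  have hred : IsReduced Z := by
    choose W hW e hx he using exists_affine_gen p hrk h2 hL
    refine Groth.Agent.Flat2C.GenericReduced.isReduced_of_affine_cover (fun x : H => p ⁻¹ᵁ W x)
      (fun x => (hW x).preimage p) (fun w => ⟨p w, hx (p w)⟩) (fun x => ?_)
    have : Nonempty (W x) := ⟨⟨x, hx x⟩⟩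
    have hu2 : IsUnit (2 : Γ(H, W x)) := isUnit_two h2
    have ha := hne (W x) ⟨x, hx x⟩ (e x) (he x)
    rw [isReduced_iff_pow_one_lt 2 one_lt_two]
    intro g hg
    rw [pow_two] at hg
    by_contra hg0
    obtain ⟨s, t, rfl⟩ := exists_rep hm (he x) g
    set X := fn (jS j (W x) (e x)) with hX
    have hXX : X * X = ((p.app (W x)).hom (sq m (e x))) := mul_self hm (e x)
    have h3 : (p.app (W x)).hom (s * s + t * t * sq m (e x)) + (p.app (W x)).hom (2 * (s * t)) * X = 0 := by
      rw [← hg]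
      simp only [map_add, map_mul, map_ofNat, ← hXX]
      ring
    obtain ⟨h4, h5⟩ := rep_eq_zero hm (he x) h3
    have h6 : s * t = 0 := hu2.mul_right_eq_zero.mp h5
    apply hg0
    rcases mul_eq_zero.mp h6 with h7 | h7
    · rw [h7, mul_zero, zero_add] at h4
      have h8 : t = 0 := by
        rcases mul_eq_zero.mp h4 with h8 | h8
        · exact mul_self_eq_zero.mp h8
        · exact absurd h8 ha
      rw [h7, h8, map_zero, zero_mul, add_zero]
    · rw [h7, mul_zero, zero_mul, add_zero] at h4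
      rw [h7, mul_self_eq_zero.mp h4, map_zero, zero_mul, add_zero]
  exact isIntegral_of_irreducibleSpace_of_isReduced Z

end main

end K554.DblSplit
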